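import Cfsg.Agent.Lib.FewOrders.Norm
import Cfsg.Agent.Lib.Frobenius.Action
import Cfsg.Agent.Lib.PCore.Basic
import Cfsg.Agent.Lib.Solvable.MinNormal

/-!
Solvable groups all of whose nontrivial elements have order one of two primes.
-/

set_option autoImplicit false

namespace CfsgLib.FewOrders

open Subgroup

universe u

variable {G : Type u} [Group G]

/-- An abelian subgroup acting fixed-point-freely on a nontrivial normal subgroup is cyclic. -/
theorem isCyclic_of_conj_fpf [Finite G] (P S : Subgroup G) [P.Normal] (hP : P ≠ ⊥)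
    [IsMulCommutative S] (h : ∀ s ∈ S, s ≠ 1 → ∀ v ∈ P, Commute s v → v = 1) : IsCyclic S := by
  letI : MulDistribMulAction S P :=
    MulDistribMulAction.compHom P ((MulAut.conjNormal (H := P)).comp S.subtype)
  have : Nontrivial P := (nontrivial_iff_ne_bot P).2 hP
  have hf : Frobenius.IsFPF S P := by
    intro s hs v hv
    have hv' : (MulAut.conjNormal (s : G) v : G) = v := congrArg Subtype.val hv
    rw [MulAut.conjNormal_apply] at hv'
    exact Subtype.ext (h s s.2 (fun h0 => hs (Subtype.ext h0)) v v.2 (mul_inv_eq_iff_eq_mul.1 hv'))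
  exact hf.isCyclic_of_commutative

/-- A fixed-point-free group of exponent a prime `s` has order `s`. -/
theorem card_eq_prime_of_conj_fpf [Finite G] (P S : Subgroup G) [P.Normal] (hP : P ≠ ⊥) {s : ℕ}
    (hs : s.Prime) (hS : S ≠ ⊥) (hexp : ∀ x ∈ S, x ^ s = 1)
    (h : ∀ x ∈ S, x ≠ 1 → ∀ v ∈ P, Commute x v → v = 1) : Nat.card S = s := by
  have := Fact.mk hs
  have hSp : IsPGroup s S := fun x => ⟨1, Subtype.ext (by simpa using hexp x x.2)⟩
  have : Nontrivial S := (nontrivial_iff_ne_bot S).2 hS
  have := hSp.center_nontrivial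
  obtain ⟨z, hz1⟩ := exists_ne (1 : center S)
  set zz : G := ((z : S) : G) with hzz
  have hzo : orderOf zz = s := orderOf_eq_prime (hexp _ z.1.2) (fun h0 => hz1 (by
    apply Subtype.ext; apply Subtype.ext; exact h0))
  have key : ∀ x ∈ S, x ∈ zpowers zz := by
    intro x hx
    set A := closure ({x, zz} : Set G)
    have hAS : A ≤ S := (closure_le S).2 (by
      intro w hw
      rcases hw with rfl | rfl
      · exact hx
      · exact z.1.2)
    have hcomm : Commute x zz := congrArg Subtype.val (mem_center_iff.1 z.2 ⟨x, hx⟩)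
    have hA : IsMulCommutative A := isMulCommutative_closure (by
      intro a ha b hb
      rcases ha with rfl | rfl <;> rcases hb with rfl | rfl <;>
        first | rfl | exact hcomm.eq | exact hcomm.eq.symm)
    have : IsCyclic A := isCyclic_of_conj_fpf P A hP (fun a ha => h a (hAS ha))
    obtain ⟨⟨g, hg⟩, hgen⟩ := IsCyclic.exists_generator (α := A)
    have hcard : Nat.card A ≤ s := by
      rw [← orderOf_eq_card_of_forall_mem_zpowers hgen, orderOf_mk]
      exact orderOf_le_of_pow_eq_one hs.pos (hexp g (hAS hg))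
    have hle : zpowers zz ≤ A := zpowers_le.2 (subset_closure (by simp))
    rw [eq_of_le_of_card_ge hle (by rwa [Nat.card_zpowers, hzo])]
    exact subset_closure (by simp)
  have : S = zpowers zz := le_antisymm key (zpowers_le.2 z.1.2)
  rw [this, Nat.card_zpowers, hzo]

/-- `(v * x) ^ n` is the norm of `v` times `x ^ n`. -/
theorem mul_pow_norm (A : Subgroup G) [A.Normal] [IsMulCommutative A] (v : A) (x : G) (n : ℕ) :
    letI : CommGroup A :=
      { (inferInstance : Group A) with mul_comm := fun a b => mul_comm' a b }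
    ((v : G) * x) ^ n =
      ((∏ i ∈ Finset.range n, ((MulAut.conjNormal x : MulAut A) ^ i) v : A) : G) * x ^ n := by
  letI : CommGroup A := { (inferInstance : Group A) with mul_comm := fun a b => mul_comm' a b }
  induction n with
  | zero => simp
  | succ n ih =>
    rw [pow_succ, ih, Finset.prod_range_succ, Subgroup.coe_mul, ← map_pow,
      MulAut.conjNormal_apply, pow_succ x]
    group

/-- In a solvable group whose nontrivial elements have order `r` or `s`, with a nontrivial normal
`r`-subgroup: the Sylow `r`-subgroup is normal of index `s`. -/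
theorem exists_normal_sylow_of_two_orders [Finite G] [Group.IsSolvable G] {r s : ℕ} (hr : r.Prime)
    (hs : s.Prime) (hrs : r ≠ s) (hord : ∀ g : G, g = 1 ∨ orderOf g = r ∨ orderOf g = s)
    (hsG : s ∣ Nat.card G) (A : Subgroup G) [A.Normal] [IsMulCommutative A] (hA : A ≠ ⊥)
    (hAr : IsPGroup r A) :
    ∃ R : Sylow r G, (R : Subgroup G).Normal ∧ (R : Subgroup G).index = s := by
  have := Fact.mk hr
  have := Fact.mk hs
  -- no mixed commuting elements
  have hmix : ∀ a b : G, orderOf a = s → orderOf b = r → ¬ Commute a b := by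
    intro a b ha hb hc
    have hcop : (orderOf a).Coprime (orderOf b) := by
      rw [ha, hb]; exact (Nat.coprime_primes hs hr).2 hrs.symm
    have hab := hc.orderOf_mul_eq_mul_orderOf_of_coprime hcop
    rw [ha, hb] at hab
    have h2s := hs.two_le
    have h2r := hr.two_le
    rcases hord (a * b) with h | h | h
    · rw [h, orderOf_one] at hab
      have := Nat.eq_one_of_mul_eq_one_right hab.symm
      omega
    · rw [h] at hab
      nlinarith [hab]
    · rw [h] at hab
      nlinarith [hab]
  have hAord : ∀ v ∈ A, v ≠ 1 → orderOf v = r := by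
    intro v hv hv1
    obtain ⟨k, hk⟩ := IsPGroup.iff_orderOf.1 hAr ⟨v, hv⟩
    rw [orderOf_mk] at hk
    rcases hord v with h | h | h
    · exact absurd h hv1
    · exact h
    · rw [h] at hk
      exact absurd ((Nat.prime_dvd_prime_iff_eq hs hr).1 (hs.dvd_of_dvd_pow hk.dvd)) hrs.symm
  have hfpf : ∀ c : G, orderOf c = s → ∀ v ∈ A, Commute c v → v = 1 := fun c hc v hv hcv => by
    by_contra hne
    exact hmix c v hc (hAord v hv hne) hcv
  have hSord : ∀ (S : Subgroup G), IsPGroup s S → ∀ x ∈ S, x ≠ 1 → orderOf x = s := by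
    intro S hS x hx hx1
    obtain ⟨k, hk⟩ := IsPGroup.iff_orderOf.1 hS ⟨x, hx⟩
    rw [orderOf_mk] at hk
    rcases hord x with h | h | h
    · exact absurd h hx1
    · rw [h] at hk
      exact absurd ((Nat.prime_dvd_prime_iff_eq hr hs).1 (hr.dvd_of_dvd_pow hk.dvd)) hrs
    · exact h
  -- the Sylow `s`-subgroups have order `s`
  have hScard : ∀ S : Sylow s G, Nat.card (S : Subgroup G) = s := by
    intro S
    refine card_eq_prime_of_conj_fpf A S hA hs (S.ne_bot_of_dvd_card hsG) (fun x hx => ?_)
      (fun x hx hx1 => hfpf x (hSord S S.2 x hx hx1))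
    rcases eq_or_ne x 1 with rfl | hx1
    · simp
    · rw [← hSord S S.2 x hx hx1, pow_orderOf_eq_one]
  have hprimes : ∀ t : ℕ, t.Prime → t ∣ Nat.card G → t = r ∨ t = s := by
    intro t ht htd
    have := Fact.mk ht
    obtain ⟨g, hg⟩ := exists_prime_orderOf_dvd_card' t htd
    rcases hord g with h | h | h
    · rw [h, orderOf_one] at hg; exact absurd hg.symm ht.ne_one
    · exact Or.inl (hg ▸ h)
    · exact Or.inr (hg ▸ h)
  let R : Sylow r G := default
  have hRidx : (R : Subgroup G).index = s := by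
    have h1 : (R : Subgroup G).index = s ^ (R : Subgroup G).index.primeFactorsList.length :=
      Nat.eq_prime_pow_of_unique_prime_dvd index_ne_zero_of_finite fun {t} ht htd => by
        rcases hprimes t ht (htd.trans (index_dvd_card _)) with rfl | rfl
        · exact absurd htd R.not_dvd_index
        · rfl
    obtain ⟨S⟩ : Nonempty (Sylow s G) := inferInstance
    set k := (R : Subgroup G).index.primeFactorsList.length
    have h2 : s ^ k ∣ s ^ 1 := by
      have h3 : Nat.card (S : Subgroup G) = s ^ (Nat.card G).factorization s := S.card_eq_multiplicity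
      rw [hScard S] at h3
      have h4 : (Nat.card G).factorization s = 1 :=
        (Nat.pow_right_injective hs.two_le (h3.symm.trans (pow_one s).symm))
      exact pow_dvd_pow s (h4 ▸ (hs.pow_dvd_iff_le_factorization Nat.card_pos.ne').1
        (h1 ▸ index_dvd_card (R : Subgroup G)))
    have h5 : k ≤ 1 := (Nat.pow_dvd_pow_iff_le_right hs.one_lt).1 h2
    have h6 : k ≠ 0 := by
      intro h0
      have hR1 : (R : Subgroup G).index = 1 := by rw [h1, h0, pow_zero]
      have h7 := index_mul_card (R : Subgroup G)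
      obtain ⟨a, ha⟩ := IsPGroup.iff_card.1 R.2
      rw [hR1, one_mul, ha] at h7
      rw [← h7] at hsG
      exact hrs ((Nat.prime_dvd_prime_iff_eq hs hr).1 (hs.dvd_of_dvd_pow hsG)).symm
    rw [h1, show k = 1 by omega, pow_one]
  refine ⟨R, ?_, hRidx⟩
  by_contra hnn
  set Pc := Cfsg.pCore r G with hPc
  have hPcn : Pc.Normal := inferInstance
  -- a minimal normal subgroup of the quotient
  have hne : Nontrivial (G ⧸ Pc) := by
    rw [QuotientGroup.nontrivial_iff]
    intro htop
    apply hnn
    have : (R : Subgroup G) = ⊤ := top_le_iff.1 (htop ▸ PCore.pCore_le_sylow R)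
    rw [this]; infer_instance
  obtain ⟨B, hB⟩ := MinNormal.exists_isMinNormal (G := G ⧸ Pc)
  obtain ⟨t, ht, -, htB, -⟩ := hB.elementaryAbelian_of_solvable
  have hts : t = s := by
    have hnz := (one_lt_card_iff_ne_bot B).2 hB.2.1
    obtain ⟨k, hk⟩ := (Fact.mk ht).elim |> fun _ => (haveI := Fact.mk ht; IsPGroup.iff_card.1 htB)
    have hk0 : k ≠ 0 := fun h => by rw [hk, h, pow_zero] at hnz; omega
    have htG : t ∣ Nat.card G := (dvd_pow_self t hk0).trans
      (hk ▸ (card_subgroup_dvd_card B).trans (card_quotient_dvd_card Pc))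
    rcases hprimes t ht htG with rfl | rfl
    · exfalso
      have h1 := PCore.le_pCore hB.1 htB
      rw [PCore.pCore_quotient_pCore, le_bot_iff] at h1
      exact hB.2.1 h1
    · rfl
  subst hts
  set M := B.comap (QuotientGroup.mk' Pc) with hM
  have hMn : M.Normal := hB.1.comap _
  let T : Sylow t M := default
  set T' : Subgroup G := (T : Subgroup M).map M.subtype with hT'
  have htop := Sylow.normalizer_sup_eq_top T
  obtain ⟨S0⟩ : Nonempty (Sylow t G) := inferInstance
  have htM : t ∣ Nat.card M := by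
    obtain ⟨k, hk⟩ := IsPGroup.iff_card.1 htB
    have hk0 : k ≠ 0 := fun h => by
      have hnz := (one_lt_card_iff_ne_bot B).2 hB.2.1
      rw [hk, h, pow_zero] at hnz; omega
    refine (dvd_pow_self t hk0).trans (hk ▸ ?_)
    have h := card_map_dvd M (QuotientGroup.mk' Pc)
    rwa [hM, map_comap_eq_self_of_surjective (QuotientGroup.mk'_surjective Pc)] at h
  -- its generator
  obtain ⟨c₀, hc₀⟩ := exists_prime_orderOf_dvd_card' t (T.dvd_card_of_dvd_card htM)
  set c : G := ((c₀ : M) : G) with hcdef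
  have hcT : c ∈ T' := ⟨(c₀ : M), c₀.2, rfl⟩
  have hco : orderOf c = t := by rw [hcdef, orderOf_coe, orderOf_coe]; exact hc₀
  have hT'card : Nat.card T' = t := by
    refine card_eq_prime_of_conj_fpf A T' hA hs (fun h0 => ?_) (fun x hx => ?_)
      (fun x hx hx1 => hfpf x (hSord T' (T.2.map _) x hx hx1))
    · rw [h0, mem_bot] at hcT
      rw [hcT, orderOf_one] at hco
      exact hs.ne_one hco.symm
    · rcases eq_or_ne x 1 with rfl | hx1
      · simp
      · rw [← hSord T' (T.2.map _) x hx hx1, pow_orderOf_eq_one]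
  have hTc : T' = zpowers c := (eq_of_le_of_card_ge (zpowers_le.2 hcT)
    (by rw [Nat.card_zpowers, hco, hT'card])).symm
  -- an element of order `r` normalising it, outside `M`
  obtain ⟨b, hbN, hbo, hbM⟩ : ∃ b ∈ normalizer (T' : Set G), orderOf b = r ∧ b ∉ M := by
    have hrq : r ∣ Nat.card (G ⧸ M) := by
      by_contra hnd
      rw [← index_eq_card] at hnd
      apply hnn
      -- then `R` would be the core
      have hle : (R : Subgroup G) ≤ M := by
        intro x hx
        obtain ⟨k, hk⟩ := IsPGroup.iff_orderOf.1 R.2 ⟨x, hx⟩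
        rw [orderOf_mk] at hk
        rw [← QuotientGroup.eq_one_iff, ← orderOf_eq_one_iff]
        exact Nat.eq_one_of_dvd_coprimes
          (((hr.coprime_iff_not_dvd.2 hnd).pow_left k))
          (hk ▸ orderOf_map_dvd (QuotientGroup.mk' M) x)
          (index_eq_card M ▸ _root_.orderOf_dvd_natCard _)
      have hRPc : (R : Subgroup G) ≤ Pc := by
        intro x hx
        rw [← QuotientGroup.eq_one_iff, ← orderOf_eq_one_iff]
        obtain ⟨k, hk⟩ := IsPGroup.iff_orderOf.1 R.2 ⟨x, hx⟩
        rw [orderOf_mk] at hk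
        have hxB : (x : G ⧸ Pc) ∈ B := hle hx
        obtain ⟨l, hl⟩ := IsPGroup.iff_orderOf.1 htB ⟨_, hxB⟩
        rw [orderOf_mk] at hl
        exact Nat.eq_one_of_dvd_coprimes (Nat.Coprime.pow k l ((Nat.coprime_primes hr hs).2 hrs))
          (hk ▸ orderOf_map_dvd (QuotientGroup.mk' Pc) x) hl.dvd
      rw [le_antisymm hRPc (PCore.pCore_le_sylow R)]
      exact hPcn
    obtain ⟨g, hg⟩ := exists_prime_orderOf_dvd_card' r hrq
    have hsurj : (normalizer (T' : Set G)).map (QuotientGroup.mk' M) = ⊤ := by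
      have h3 := congrArg (Subgroup.map (QuotientGroup.mk' M)) htop
      rwa [Subgroup.map_sup, (map_eq_bot_iff M).2 (QuotientGroup.ker_mk' M).ge, sup_bot_eq,
        ← MonoidHom.range_eq_map, MonoidHom.range_eq_top.2 (QuotientGroup.mk'_surjective M)] at h3
    obtain ⟨b, hb, hbg⟩ := mem_map.1 (hsurj ▸ mem_top g : g ∈ (normalizer (T' : Set G)).map _)
    have hdvd : r ∣ orderOf b := hg ▸ hbg ▸ orderOf_map_dvd (QuotientGroup.mk' M) b
    refine ⟨b, hb, ?_, ?_⟩
    · rcases hord b with h | h | h
      · rw [h, orderOf_one, Nat.dvd_one] at hdvd; exact absurd hdvd hr.ne_one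
      · exact h
      · rw [h] at hdvd; exact absurd ((Nat.prime_dvd_prime_iff_eq hr hs).1 hdvd) hrs
    · intro hbM
      rw [← hbg, (QuotientGroup.eq_one_iff b).2 hbM |> fun h => (show (QuotientGroup.mk' M) b = 1 from h),
        orderOf_one] at hg
      exact hr.ne_one hg.symm
  obtain ⟨k, hk⟩ := mem_zpowers_iff.1 (hTc ▸ (mem_normalizer_iff.1 hbN c).1 hcT :
    b * c * b⁻¹ ∈ zpowers c)
  have hcM : c ∈ M := (c₀ : M).2
  letI : CommGroup A := { (inferInstance : Group A) with mul_comm := fun a b => mul_comm' a b }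
  have : Nontrivial A := (nontrivial_iff_ne_bot A).2 hA
  let φ : G →* MulAut A := MulAut.conjNormal
  have hfix : ∀ v : A, φ c v = v → v = 1 := fun v hv => by
    have hv' : (φ c v : G) = v := congrArg Subtype.val hv
    rw [MulAut.conjNormal_apply] at hv'
    exact Subtype.ext (hfpf c hco v v.2 (mul_inv_eq_iff_eq_mul.1 hv'))
  have hne : φ b * φ c ≠ φ c * φ b := by
    intro he
    have h1 : φ (c ^ (k - 1)) = 1 := by
      rw [zpow_sub_one, map_mul, map_inv, hk, map_mul, map_mul, map_inv, he, mul_inv_cancel_right,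
        mul_inv_cancel]
    have h2 : c ^ (k - 1) = 1 := by
      by_contra hne'
      obtain ⟨⟨v, hvA⟩, hv1⟩ := exists_ne (1 : A)
      have h3 : (φ (c ^ (k - 1)) ⟨v, hvA⟩ : G) = v := by rw [h1]; rfl
      rw [MulAut.conjNormal_apply] at h3
      have h4 : orderOf (c ^ (k - 1)) = t := by
        rcases (Nat.dvd_prime hs).1 (hco ▸ orderOf_dvd_of_mem_zpowers (zpow_mem (mem_zpowers c) _))
          with h | h
        · exact absurd (orderOf_eq_one_iff.1 h) hne'
        · exact h
      exact hv1 (Subtype.ext (hfpf _ h4 v hvA (mul_inv_eq_iff_eq_mul.1 h3)))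
    refine hmix c b hco hbo (Commute.symm ?_)
    rw [zpow_sub_one, hk, mul_inv_eq_one] at h2
    exact mul_inv_eq_iff_eq_mul.1 h2
  obtain ⟨j, v, hv⟩ := exists_norm_ne_one (V := A) hs hr (φ c) (φ b)
    (by rw [← map_pow, ← hco, pow_orderOf_eq_one, map_one]) hfix
    (by obtain ⟨a, ha⟩ := IsPGroup.iff_card.1 hAr
        rw [ha]; exact ((Nat.coprime_primes hr hs).2 hrs).pow_left a)
    (k := k) (by rw [← map_inv, ← map_mul, ← map_mul, ← hk, map_zpow])
    (by rw [← map_pow, ← hbo, pow_orderOf_eq_one, map_one]) hne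
  -- orders of the lifts
  have hordr : ∀ x : G, (x : G ⧸ M) = (b : G ⧸ M) → x ^ r = 1 := by
    intro x hx
    have h1 : orderOf (x : G ⧸ M) = r := by
      rw [hx]
      refine orderOf_eq_prime ?_ (fun h => hbM ((QuotientGroup.eq_one_iff b).1 h))
      rw [← QuotientGroup.mk_pow, ← hbo, pow_orderOf_eq_one]; rfl
    have h2 : r ∣ orderOf x := h1 ▸ orderOf_map_dvd (QuotientGroup.mk' M) x
    rcases hord x with h | h | h
    · rw [h, one_pow]
    · rw [← h, pow_orderOf_eq_one]
    · rw [h] at h2
      exact absurd ((Nat.prime_dvd_prime_iff_eq hr hs).1 h2) hrs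
  have hAM : A ≤ M := fun x hx => by
    rw [hM, mem_comap, QuotientGroup.mk'_apply,
      (QuotientGroup.eq_one_iff x).2 (PCore.le_pCore inferInstance hAr hx)]
    exact one_mem _
  have hmk : ((c ^ j * b : G) : G ⧸ M) = (b : G ⧸ M) := by
    rw [QuotientGroup.mk_mul, (QuotientGroup.eq_one_iff _).2 (pow_mem hcM j), one_mul]
  have e1 := mul_pow_norm A v (c ^ j * b) r
  have e2 : (((v : G) * (c ^ j * b)) : G ⧸ M) = (b : G ⧸ M) := by
    rw [(QuotientGroup.eq_one_iff _).2 (hAM v.2), one_mul]
    exact hmk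
  rw [hordr _ (by rw [QuotientGroup.mk_mul]; exact e2), hordr _ hmk, mul_one] at e1
  refine hv (Subtype.ext ?_)
  rw [← map_pow, ← map_mul]
  exact e1.symm

/-- A solvable group all of whose nontrivial elements have one of two prime orders `p`, `q`, both
occurring: a normal Sylow subgroup of prime index, whose complement is a Frobenius complement. -/
theorem structure_two_orders [Finite G] [Group.IsSolvable G] {p q : ℕ} (hp : p.Prime)
    (hq : q.Prime) (hpq : p ≠ q) (hord : ∀ g : G, g = 1 ∨ orderOf g = p ∨ orderOf g = q)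
    (hpG : p ∣ Nat.card G) (hqG : q ∣ Nat.card G) :
    ∃ r s : ℕ, ((r = p ∧ s = q) ∨ (r = q ∧ s = p)) ∧
      ∃ R : Subgroup G, R.Normal ∧ IsPGroup r R ∧ R.index = s ∧
        ∃ T : Subgroup G, Nat.card T = s ∧ Cfsg.IsFrobeniusComplement T := by
  have : Nontrivial G := Finite.one_lt_card_iff_nontrivial.1
    (hp.one_lt.trans_le (Nat.le_of_dvd Nat.card_pos hpG))
  obtain ⟨A, hA⟩ := MinNormal.exists_isMinNormal (G := G)
  obtain ⟨r, hr, hel, hAr, -⟩ := hA.elementaryAbelian_of_solvable
  have := hA.1
  have := hel.1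
  have := Fact.mk hr
  have hr' : r = p ∨ r = q := by
    obtain ⟨⟨a, ha⟩, ha1⟩ := ne_bot_iff_exists_ne_one.1 hA.2.1
    have h1 := orderOf_dvd_of_pow_eq_one (hel.2 a ha)
    rcases hord a with h | h | h
    · exact absurd (Subtype.ext h) ha1
    · rw [h] at h1; exact Or.inl ((Nat.prime_dvd_prime_iff_eq hp hr).1 h1).symm
    · rw [h] at h1; exact Or.inr ((Nat.prime_dvd_prime_iff_eq hq hr).1 h1).symm
  obtain ⟨s, hs, hrs, hsG, hord', hcase⟩ : ∃ s : ℕ, s.Prime ∧ r ≠ s ∧ s ∣ Nat.card G ∧
      (∀ g : G, g = 1 ∨ orderOf g = r ∨ orderOf g = s) ∧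
      ((r = p ∧ s = q) ∨ (r = q ∧ s = p)) := by
    rcases hr' with rfl | rfl
    · exact ⟨q, hq, hpq, hqG, hord, Or.inl ⟨rfl, rfl⟩⟩
    · exact ⟨p, hp, hpq.symm, hpG, fun g => (hord g).imp_right Or.symm, Or.inr ⟨rfl, rfl⟩⟩
  obtain ⟨R, hRn, hRi⟩ := exists_normal_sylow_of_two_orders hr hs hrs hord' hsG A hA.2.1 hAr
  refine ⟨r, s, hcase, R, hRn, R.2, hRi, ?_⟩
  have := Fact.mk hs
  obtain ⟨c, hc⟩ := exists_prime_orderOf_dvd_card' s hsG
  refine ⟨zpowers c, by rw [Nat.card_zpowers, hc], ?_, ?_, ?_⟩
  · intro h0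
    have := mem_zpowers c
    rw [h0, mem_bot] at this
    rw [this, orderOf_one] at hc
    exact hs.ne_one hc.symm
  · intro h0
    have hcard : Nat.card G = s := by rw [← card_top, ← h0, Nat.card_zpowers, hc]
    obtain ⟨⟨a, ha⟩, ha1⟩ := ne_bot_iff_exists_ne_one.1 hA.2.1
    have h1 := orderOf_dvd_of_pow_eq_one (hel.2 a ha)
    have h2 : orderOf a ∣ s := hcard ▸ _root_.orderOf_dvd_natCard a
    exact ha1 (Subtype.ext (orderOf_eq_one_iff.1
      (Nat.eq_one_of_dvd_coprimes ((Nat.coprime_primes hr hs).2 hrs) h1 h2)))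
  · intro g hg
    by_contra hne
    obtain ⟨⟨x, hx⟩, hx1⟩ := ne_bot_iff_exists_ne_one.1 hne
    have hgen : ∀ y ∈ zpowers c, y ≠ 1 → zpowers y = zpowers c := fun y hy hy1 => by
      refine eq_of_le_of_card_ge (zpowers_le.2 hy) ?_
      rw [Nat.card_zpowers, Nat.card_zpowers]
      rcases (Nat.dvd_prime hs).1 (hc ▸ orderOf_dvd_of_mem_zpowers hy) with h | h
      · exact absurd (orderOf_eq_one_iff.1 h) hy1
      · rw [h, hc]
    -- `g` normalises `⟨c⟩`
    have hgN : g ∈ normalizer ((zpowers c : Subgroup G) : Set G) := by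
      obtain ⟨hx', hxg⟩ := hx
      have hxg' : g⁻¹ * x * g ∈ zpowers c := by
        obtain ⟨y, hy, hyx⟩ := hxg
        rw [← show g * y * g⁻¹ = x from hyx]
        simpa [mul_assoc] using hy
      have hx1' : x ≠ 1 := fun h => hx1 (Subtype.ext h)
      rw [mem_normalizer_iff_map_conj_eq]
      conv_lhs => rw [← hgen _ hxg' (fun h => hx1' (by
        have := congrArg (fun z => g * z * g⁻¹) h
        simpa [mul_assoc] using this))]
      rw [MonoidHom.map_zpowers, ← hgen x hx' hx1']
      congr 1
      simp [mul_assoc]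
    -- but the normaliser is `⟨c⟩`
    apply hg
    set N := normalizer ((zpowers c : Subgroup G) : Set G)
    have hcard : Nat.card N ∣ s := by
      have hdisj : N ⊓ (R : Subgroup G) = ⊥ := by
        rw [eq_bot_iff_forall]
        rintro b ⟨hbN, hbR⟩
        by_contra hb1
        have hbo : orderOf b = r := by
          obtain ⟨m, hm⟩ := IsPGroup.iff_orderOf.1 R.2 ⟨b, hbR⟩
          rw [orderOf_mk] at hm
          rcases hord' b with h | h | h
          · exact absurd h hb1
          · exact h
          · rw [h] at hm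
            exact absurd ((Nat.prime_dvd_prime_iff_eq hs hr).1 (hs.dvd_of_dvd_pow hm.dvd)) hrs.symm
        -- the commutator lies in both
        have h1 : c * b * c⁻¹ * b⁻¹ ∈ (R : Subgroup G) :=
          mul_mem (hRn.conj_mem b hbR c) (inv_mem hbR)
        have h2 : c * b * c⁻¹ * b⁻¹ ∈ zpowers c := by
          rw [mul_assoc c, mul_assoc c]
          exact mul_mem (mem_zpowers c)
            ((mem_normalizer_iff.1 hbN _).1 (inv_mem (mem_zpowers c)))
        have h3 : c * b * c⁻¹ * b⁻¹ = 1 := by
          obtain ⟨m, hm⟩ := IsPGroup.iff_orderOf.1 R.2 ⟨_, h1⟩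
          rw [orderOf_mk] at hm
          refine orderOf_eq_one_iff.1 (Nat.eq_one_of_dvd_coprimes
            (((Nat.coprime_primes hr hs).2 hrs).pow_left m) hm.dvd ?_)
          exact hc ▸ orderOf_dvd_of_mem_zpowers h2
        have hcomm : Commute c b := by
          rw [← commutatorElement_eq_one_iff_commute]; exact h3
        have hab := hcomm.orderOf_mul_eq_mul_orderOf_of_coprime
          (by rw [hc, hbo]; exact (Nat.coprime_primes hs hr).2 hrs.symm)
        rw [hc, hbo] at hab
        have := hs.two_le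
        have := hr.two_le
        rcases hord' (c * b) with h | h | h
        · rw [h, orderOf_one] at hab; nlinarith [hab]
        · rw [h] at hab; nlinarith [hab]
        · rw [h] at hab; nlinarith [hab]
      have h1 : Nat.card N = (R : Subgroup G).relIndex N := by
        rw [← inf_relIndex_right, inf_comm, hdisj, relIndex_bot_left]
      rw [h1, ← hRi]
      exact relIndex_dvd_index_of_normal _ _
    have hle : zpowers c ≤ N := le_normalizer
    rw [eq_of_le_of_card_ge hle (by rw [Nat.card_zpowers, hc]; exact Nat.le_of_dvd hs.pos hcard)]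
    exact hgN

end CfsgLib.FewOrders
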