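import Cfsg.Agent.Lib.Characters.Burnside
import Cfsg.Agent.Lib.Recog.Coclique
import Cfsg.Agent.Lib.Structure.SolvableRadical
import Cfsg.Agent.Lib.Solvable.MinNormal
import Cfsg.Agent.Lib.FewOrders.Structure

/-!
Groups whose element orders are prime powers.
-/

set_option autoImplicit false

namespace CfsgLib.FewOrders

open Subgroup

universe u

variable {G : Type u} [Group G]

/-- A group with at most two prime divisors is solvable. -/
theorem isSolvable_of_two_primes [Finite G] {p q : ℕ} (hp : p.Prime) (hq : q.Prime)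
    (h : ∀ t : ℕ, t.Prime → t ∣ Nat.card G → t = p ∨ t = q) : Group.IsSolvable G := by
  obtain ⟨a, m, hm, ha⟩ := Nat.exists_eq_pow_mul_and_not_dvd (Nat.card_pos (α := G)).ne' p hp.ne_one
  have hm0 : m ≠ 0 := fun h0 => hm (h0 ▸ dvd_zero p)
  have hmq := Nat.eq_prime_pow_of_unique_prime_dvd hm0 (p := q) fun {t} ht htm => by
    rcases h t ht (ha ▸ htm.mul_left _) with rfl | rfl
    · exact absurd htm hm
    · rfl
  exact Burnside.isSolvable_of_card_eq hp hq a _ (by rw [ha, hmq])

/-- A nonsolvable finite group has at least three prime divisors. -/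
theorem three_le_card_primeFactors [Finite G] (hns : ¬ Group.IsSolvable G) :
    3 ≤ (Nat.card G).primeFactors.card := by
  by_contra hlt
  push Not at hlt
  apply hns
  obtain ⟨s, hs⟩ : ∃ s, s = (Nat.card G).primeFactors := ⟨_, rfl⟩
  have hmem : ∀ t, t.Prime → t ∣ Nat.card G → t ∈ s := fun t ht htd =>
    hs ▸ ht.mem_primeFactors htd Nat.card_pos.ne'
  have hpr : ∀ t ∈ s, Nat.Prime t := fun t ht => Nat.prime_of_mem_primeFactors (hs ▸ ht)
  rw [← hs] at hlt
  obtain h | h | h : s.card = 0 ∨ s.card = 1 ∨ s.card = 2 := by omega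
  · refine isSolvable_of_two_primes Nat.prime_two Nat.prime_two fun t ht htd => ?_
    rw [Finset.card_eq_zero.1 h] at hmem
    simpa using hmem t ht htd
  · obtain ⟨a, ha⟩ := Finset.card_eq_one.1 h
    subst ha
    refine isSolvable_of_two_primes (hpr a (by simp)) (hpr a (by simp)) fun t ht htd => ?_
    have := hmem t ht htd; simp at this; exact Or.inl this
  · obtain ⟨a, b, -, ha⟩ := Finset.card_eq_two.1 h
    subst ha
    refine isSolvable_of_two_primes (hpr a (by simp)) (hpr b (by simp)) fun t ht htd => ?_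
    simpa using hmem t ht htd

/-- Every element has prime power order. -/
def IsEPPO (G : Type*) [Group G] : Prop := ∀ g : G, g ≠ 1 → IsPrimePow (orderOf g)

theorem IsEPPO.no_mul_order (h : IsEPPO G) {p q : ℕ} (hp : p.Prime) (hq : q.Prime) (hpq : p ≠ q) :
    ¬ ∃ x : G, orderOf x = p * q := by
  rintro ⟨x, hx⟩
  have hx1 : x ≠ 1 := fun h0 => by
    rw [h0, orderOf_one] at hx
    exact hp.ne_one (Nat.eq_one_of_mul_eq_one_right hx.symm)
  obtain ⟨s, k, hs, -, hk⟩ := h x hx1
  rw [← Nat.prime_iff] at hs
  rw [hx] at hk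
  have e1 := (Nat.prime_dvd_prime_iff_eq hp hs).1 (hp.dvd_of_dvd_pow (hk ▸ Dvd.intro q rfl))
  have e2 := (Nat.prime_dvd_prime_iff_eq hq hs).1 (hq.dvd_of_dvd_pow (hk ▸ Dvd.intro_left p rfl))
  exact hpq (e1.trans e2.symm)

theorem IsEPPO.subgroup (h : IsEPPO G) (H : Subgroup G) : IsEPPO H := fun g hg => by
  rw [← orderOf_coe]
  exact h g (fun h0 => hg (Subtype.ext h0))

theorem IsEPPO.quotient (h : IsEPPO G) (N : Subgroup G) [N.Normal] : IsEPPO (G ⧸ N) := by
  intro x hx
  obtain ⟨g, rfl⟩ := QuotientGroup.mk'_surjective N x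
  have hg : g ≠ 1 := fun h0 => hx (by rw [h0, map_one])
  refine (h g hg).dvd (orderOf_map_dvd _ g) ?_
  rwa [Ne, orderOf_eq_one_iff]

theorem IsEPPO.coclique [Finite G] (h : IsEPPO G) :
    Recog.Coclique.IsCoclique G (Nat.card G).primeFactors :=
  ⟨fun _ hr => Nat.prime_of_mem_primeFactors hr,
    fun _ hr _ hs hne => h.no_mul_order (Nat.prime_of_mem_primeFactors hr)
      (Nat.prime_of_mem_primeFactors hs) hne⟩

/-- A solvable group of this kind has at most two prime divisors. -/
theorem IsEPPO.card_primeFactors_le_two [Finite G] (h : IsEPPO G) (hs : Group.IsSolvable G) :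
    (Nat.card G).primeFactors.card ≤ 2 := by
  by_contra hlt
  exact Recog.Coclique.not_isSolvable_of_coclique h.coclique (by omega)
    (fun r hr => Nat.dvd_of_mem_primeFactors hr) hs

/-- Higman's structure theorem. -/
theorem IsEPPO.nonsolvable_structure [Finite G] (h : IsEPPO G) (hns : ¬ Group.IsSolvable G)
    (R : Subgroup G) [R.Normal] (hRs : Group.IsSolvable R)
    (hRmax : ∀ N : Subgroup G, N.Normal → Group.IsSolvable N → N ≤ R) :
    (∃ p : ℕ, p.Prime ∧ IsPGroup p R) ∧
      (∃ M : Subgroup (G ⧸ R), M.Normal ∧ IsSimpleGroup M ∧ ¬ IsMulCommutative M ∧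
        ∀ N : Subgroup (G ⧸ R), N.Normal → N ≠ ⊥ → M ≤ N) ∧
      ∀ H : Subgroup G, Group.IsSolvable H → (Nat.card H).primeFactors.card ≤ 2 := by
  refine ⟨?_, ?_, fun H hH => (h.subgroup H).card_primeFactors_le_two hH⟩
  · rcases eq_or_ne (Nat.card R) 1 with h1 | h1
    · exact ⟨2, Nat.prime_two, IsPGroup.of_card (n := 0) (by simpa using h1)⟩
    obtain ⟨p, hp, hpR⟩ := Nat.exists_prime_and_dvd h1
    refine ⟨p, hp, fun g => ?_⟩
    refine ⟨(orderOf g).primeFactorsList.length, orderOf_dvd_iff_pow_eq_one.1 (dvd_of_eq ?_)⟩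
    refine Nat.eq_prime_pow_of_unique_prime_dvd (orderOf_pos g).ne' fun {t} ht htd => ?_
    have htR := htd.trans (_root_.orderOf_dvd_natCard g)
    have hmem : ∀ s, s.Prime → s ∣ Nat.card R → s ∈ (Nat.card G).primeFactors := fun s hs hd =>
      hs.mem_primeFactors (hd.trans (card_subgroup_dvd_card R)) Nat.card_pos.ne'
    exact Recog.Coclique.coclique_meets_solvable h.coclique (three_le_card_primeFactors hns)
      (fun r hr => Nat.dvd_of_mem_primeFactors hr) R hRs (hmem t ht htR) (hmem p hp hpR) htR hpR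
  set Q := G ⧸ R
  have hQ : IsEPPO Q := h.quotient R
  have hrad : ∀ N : Subgroup Q, N.Normal → Group.IsSolvable N → N = ⊥ := by
    intro N hN hNs
    set N' := N.comap (QuotientGroup.mk' R) with hN'
    have hN'n : N'.Normal := hN.comap _
    have hN's : Group.IsSolvable N' := by
      let f : N' →* N := (QuotientGroup.mk' R).subgroupComap N
      refine Group.isSolvable_of_ker_le_range (inclusion (show R ≤ N' from fun x hx => ?_)) f ?_
      · rw [hN', mem_comap, QuotientGroup.mk'_apply, (QuotientGroup.eq_one_iff x).2 hx]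
        exact one_mem _
      · intro x hx
        have hx' : ((x : G) : Q) = 1 := congrArg Subtype.val hx
        exact ⟨⟨x, (QuotientGroup.eq_one_iff _).1 hx'⟩, rfl⟩
    have hle := hRmax N' hN'n hN's
    rw [eq_bot_iff_forall]
    intro x hx
    obtain ⟨g, rfl⟩ := QuotientGroup.mk'_surjective R x
    exact (QuotientGroup.eq_one_iff g).2 (hle hx)
  have hnt : Nontrivial Q := by
    rw [QuotientGroup.nontrivial_iff]
    intro htop
    subst htop
    exact hns (Group.isSolvable_of_surjective (f := (topEquiv (G := G)).toMonoidHom)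
      (topEquiv (G := G)).surjective)
  obtain ⟨M, hM⟩ := MinNormal.exists_isMinNormal (G := Q)
  have hMn := hM.1
  have hMc : ¬ IsMulCommutative M := fun hc => by
    have : Group.IsSolvable M := Group.isSolvable_of_comm hc.is_comm.comm
    exact hM.2.1 (hrad M hMn this)
  -- two prime divisors in each nonsolvable subgroup
  have htwo : ∀ S : Subgroup Q, ¬ Group.IsSolvable S → ∀ p : ℕ, p.Prime →
      ∃ q : ℕ, q.Prime ∧ q ≠ p ∧ q ∣ Nat.card S := by
    intro S hS p hp
    by_contra hall
    push Not at hall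
    exact hS (isSolvable_of_two_primes hp hp fun t ht htd =>
      Or.inl (by by_contra hne; exact hall t ht hne htd))
  -- commuting nonsolvable subgroups cannot exist
  have hnocomm : ∀ S S' : Subgroup Q, ¬ Group.IsSolvable S → ¬ Group.IsSolvable S' →
      (∀ a ∈ S, ∀ b ∈ S', Commute a b) → False := by
    intro S S' hS hS' hc
    obtain ⟨p, hp, -, hpS⟩ := htwo S hS 2 Nat.prime_two
    obtain ⟨q, hq, hqp, hqS⟩ := htwo S' hS' p hp
    have := Fact.mk hp
    have := Fact.mk hq
    obtain ⟨a, ha⟩ := exists_prime_orderOf_dvd_card' p hpS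
    obtain ⟨b, hb⟩ := exists_prime_orderOf_dvd_card' q hqS
    refine hQ.no_mul_order hp hq hqp.symm ⟨(a : Q) * b, ?_⟩
    rw [(hc a a.2 b b.2).orderOf_mul_eq_mul_orderOf_of_coprime
      (by rw [orderOf_coe, orderOf_coe, ha, hb]; exact (Nat.coprime_primes hp hq).2 hqp.symm),
      orderOf_coe, orderOf_coe, ha, hb]
  have hMns : ¬ Group.IsSolvable M := fun hs => hM.2.1 (hrad M hMn hs)
  refine ⟨M, hMn, ?_, hMc, ?_⟩
  · have : Nontrivial M := (nontrivial_iff_ne_bot M).2 hM.2.1
    refine ⟨fun K hK => ?_⟩
    rcases eq_or_ne K ⊥ with hK0 | hK0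
    · exact Or.inl hK0
    right
    obtain ⟨S, hS, hSK⟩ := MinNormal.exists_isMinNormal_le hK hK0
    have hSns : ¬ Group.IsSolvable S := by
      intro hs
      have hle := Structure.le_solvableRadical hS.1 hs
      have hch : (Cfsg.solvableRadical M).Characteristic := Structure.solvableRadical_characteristic
      have hn : ((Cfsg.solvableRadical M).map M.subtype).Normal :=
        ConjAct.normal_of_characteristic_of_normal
      have hsr := Structure.isSolvable_solvableRadical (G := M)
      have := hrad _ hn (Group.isSolvable_of_surjective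
        (f := ((Cfsg.solvableRadical M).equivMapOfInjective M.subtype M.subtype_injective).toMonoidHom)
        (MulEquiv.surjective _))
      rw [map_eq_bot_iff_of_injective _ M.subtype_injective] at this
      exact hS.2.1 (le_bot_iff.1 (this ▸ hle))
    by_cases hinv : ∀ g : Q, S.map (MulAut.conjNormal g : MulAut M).toMonoidHom = S
    · have hn : (S.map M.subtype).Normal := by
        refine ⟨fun x hx g => ?_⟩
        obtain ⟨s, hs, rfl⟩ := hx
        refine ⟨MulAut.conjNormal g s, ?_, ?_⟩
        · have hmem : (MulAut.conjNormal g : MulAut M) s ∈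
              S.map (MulAut.conjNormal g : MulAut M).toMonoidHom := ⟨s, hs, rfl⟩
          rwa [hinv g] at hmem
        · exact MulAut.conjNormal_apply g s
      rcases hM.2.2 _ hn (map_subtype_le S) with h1 | h1
      · rw [map_eq_bot_iff_of_injective _ M.subtype_injective] at h1
        exact absurd h1 hS.2.1
      · refine top_le_iff.1 fun x _ => hSK ?_
        have hx' : (x : Q) ∈ S.map M.subtype := by rw [h1]; exact x.2
        obtain ⟨y, hy, hyx⟩ := hx'
        exact (Subtype.ext hyx : y = x) ▸ hy
    push Not at hinv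
    obtain ⟨g, hg⟩ := hinv
    exfalso
    set e : MulAut M := MulAut.conjNormal g
    set S' := S.map e.toMonoidHom
    have hS'n : S'.Normal := hS.1.map _ e.surjective
    have hdis : S ⊓ S' = ⊥ := by
      have := hS.1
      rcases hS.2.2 (S ⊓ S') inferInstance inf_le_left with h1 | h1
      · exact h1
      · exact absurd (eq_of_le_of_card_ge (inf_eq_left.1 h1)
          (Nat.card_congr (S.equivMapOfInjective e.toMonoidHom e.injective).toEquiv).ge).symm hg
    have hc := commute_of_normal_of_disjoint S S' hS.1 hS'n (disjoint_iff.2 hdis)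
    refine hnocomm (S.map M.subtype) (S'.map M.subtype) ?_ ?_ ?_
    · intro hs
      exact hSns (Group.isSolvable_of_isSolvable_injective
        (f := (S.equivMapOfInjective M.subtype M.subtype_injective).toMonoidHom) (MulEquiv.injective _))
    · intro hs
      let f : S ≃* S'.map M.subtype := (S.equivMapOfInjective e.toMonoidHom e.injective).trans
        (S'.equivMapOfInjective M.subtype M.subtype_injective)
      exact hSns (Group.isSolvable_of_isSolvable_injective (f := f.toMonoidHom) f.injective)
    · rintro _ ⟨a, ha, rfl⟩ _ ⟨b, hb, rfl⟩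
      exact (hc a b ha hb).map M.subtype
  · intro N hN hN0
    obtain ⟨N', hN', hN'N⟩ := MinNormal.exists_isMinNormal_le hN hN0
    rcases hM.inf_eq_bot_or_le hN'.1 with h1 | h1
    · exfalso
      refine hnocomm M N' hMns (fun hs => hN'.2.1 (hrad N' hN'.1 hs)) fun a ha b hb => ?_
      exact commute_of_normal_of_disjoint M N' hMn hN'.1 (disjoint_iff.2 h1) a b ha hb
    · exact h1.trans hN'N

end CfsgLib.FewOrders
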