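import Mathlib

/-!
The norm argument for `⟨c⟩ ⋊ ⟨b⟩` acting on an abelian group with `c` fixed-point-free, and the
small `2`-groups with one involution.
-/

set_option autoImplicit false

namespace CfsgLib.FewOrders

open Subgroup

variable {V : Type*} [CommGroup V]

/-- If `γ` of prime order `q` is fixed-point-free on a nontrivial abelian group of order prime to
`q`, and `β` of prime order `r` normalises `⟨γ⟩` without centralising it, then some `γ ^ j * β`
has a nontrivial norm. -/
theorem exists_norm_ne_one [Finite V] [Nontrivial V] {q r : ℕ} (hq : q.Prime) (hr : r.Prime)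
    (γ β : MulAut V) (hγ : γ ^ q = 1) (hfix : ∀ v, γ v = v → v = 1)
    (hcop : (Nat.card V).Coprime q) {k : ℤ} (hconj : β * γ * β⁻¹ = γ ^ k) (hβ : β ^ r = 1)
    (hne : β * γ ≠ γ * β) :
    ∃ (j : ℕ) (v : V), ∏ i ∈ Finset.range r, ((γ ^ j * β) ^ i) v ≠ 1 := by
  classical
  have := Fact.mk hq
  have hγ1 : γ ≠ 1 := fun h => hne (by rw [h, mul_one, one_mul])
  have hord : orderOf γ = q := orderOf_eq_prime hγ hγ1
  by_contra hall
  push Not at hall
  -- powers of `β` acting on `⟨γ⟩`
  have hiter : ∀ i : ℕ, β ^ i * γ * (β ^ i)⁻¹ = γ ^ (k ^ i) := by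
    intro i
    induction i with
    | zero => simp
    | succ i ih =>
      calc β ^ (i + 1) * γ * (β ^ (i + 1))⁻¹ = β * (β ^ i * γ * (β ^ i)⁻¹) * β⁻¹ := by
            rw [pow_succ']; group
        _ = (β * γ * β⁻¹) ^ (k ^ i) := by rw [ih, conj_zpow]
        _ = γ ^ (k ^ (i + 1)) := by rw [hconj, ← zpow_mul, pow_succ']
  have hcast : ∀ a b : ℤ, γ ^ a = γ ^ b ↔ (a : ZMod q) = b := by
    intro a b
    rw [zpow_eq_zpow_iff_modEq, hord, ZMod.intCast_eq_intCast_iff]
  -- the geometric sums are prime to `q`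
  have hS : ∀ i, 0 < i → i < r → ((∑ l ∈ Finset.range i, k ^ l : ℤ) : ZMod q) ≠ 0 := by
    intro i hi hir h0
    have h1 : ((k : ZMod q)) ^ i = 1 := by
      have h2 := geom_sum_mul (k : ZMod q) i
      push_cast at h0
      rw [h0, zero_mul] at h2
      exact sub_eq_zero.1 h2.symm
    have h2 : ((k : ZMod q)) ^ r = 1 := by
      have h3 := hiter r
      rw [hβ, one_mul, inv_one, mul_one] at h3
      have h4 := (hcast 1 (k ^ r)).1 (by rw [zpow_one]; exact h3)
      push_cast at h4
      exact h4.symm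
    have h3 : (k : ZMod q) = 1 := by
      have hco : i.Coprime r :=
        ((hr.coprime_iff_not_dvd).2 fun hd => absurd (Nat.le_of_dvd hi hd) (by omega)).symm
      have := pow_gcd_eq_one.2 ⟨h1, h2⟩
      rwa [hco.gcd_eq_one, pow_one] at this
    apply hne
    have h4 : γ ^ k = γ := by
      nth_rewrite 2 [← zpow_one γ]
      exact (hcast k 1).2 (by simpa using h3)
    rw [h4] at hconj
    exact mul_inv_eq_iff_eq_mul.1 hconj
  have hpow : ∀ (j i : ℕ),
      (γ ^ j * β) ^ i = γ ^ ((j : ℤ) * ∑ l ∈ Finset.range i, k ^ l) * β ^ i := by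
    intro j i
    induction i with
    | zero => simp
    | succ i ih =>
      rw [pow_succ (γ ^ j * β), ih, Finset.sum_range_succ]
      generalize (∑ l ∈ Finset.range i, k ^ l) = S
      calc γ ^ ((j : ℤ) * S) * β ^ i * (γ ^ j * β)
          = γ ^ ((j : ℤ) * S) * (β ^ i * γ * (β ^ i)⁻¹) ^ (j : ℤ) * (β ^ i * β) := by
            rw [conj_zpow, zpow_natCast]; group
        _ = γ ^ ((j : ℤ) * (S + k ^ i)) * β ^ (i + 1) := by
            rw [hiter, ← zpow_mul, ← zpow_add, pow_succ]; ring_nf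
  -- the sum over `⟨γ⟩` is trivial
  have hnorm : ∀ w : V, ∏ x : ZMod q, (γ ^ (x.val : ℤ)) w = 1 := by
    intro w
    refine hfix _ ?_
    rw [map_prod]
    refine Fintype.prod_equiv (Equiv.addLeft (1 : ZMod q)) _ _ fun x => ?_
    rw [show γ ((γ ^ (x.val : ℤ)) w) = (γ * γ ^ (x.val : ℤ)) w from rfl]
    congr 1
    rw [← zpow_one_add]
    exact (hcast _ _).2 (by simp)
  have hcol : ∀ (v : V) (i : ℕ), 0 < i → i < r →
      ∏ j ∈ Finset.range q, ((γ ^ j * β) ^ i) v = 1 := by
    intro v i hi hir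
    have hmul : ∀ j : ℕ, ((γ ^ j * β) ^ i) v
        = (γ ^ ((j : ℤ) * ∑ l ∈ Finset.range i, k ^ l)) ((β ^ i) v) := fun j => by
      rw [hpow]; rfl
    simp only [hmul]
    rw [← hnorm ((β ^ i) v)]
    refine Finset.prod_bij'
      (fun j _ => ((j : ℤ) * ∑ l ∈ Finset.range i, k ^ l : ℤ))
      (fun x _ => (x * ((∑ l ∈ Finset.range i, k ^ l : ℤ) : ZMod q)⁻¹).val)
      (fun _ _ => Finset.mem_univ _) (fun x _ => Finset.mem_range.2 (ZMod.val_lt _)) ?_ ?_ ?_
    · intro j hj
      push_cast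
      rw [mul_assoc, mul_inv_cancel₀ (by simpa using hS i hi hir), mul_one,
        ZMod.val_cast_of_lt (Finset.mem_range.1 hj)]
    · intro x _
      push_cast
      rw [ZMod.natCast_val, ZMod.cast_id', id_eq, mul_assoc,
        inv_mul_cancel₀ (by simpa using hS i hi hir), mul_one]
    · intro j _
      congr 1
      exact (hcast _ _).2 (by simp)
  obtain ⟨v, hv⟩ := exists_ne (1 : V)
  refine hv ?_
  have h1 : ∏ j ∈ Finset.range q, ∏ i ∈ Finset.range r, ((γ ^ j * β) ^ i) v = 1 :=
    Finset.prod_eq_one fun j _ => hall j v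
  rw [Finset.prod_comm, Finset.prod_eq_single 0 (fun i hi hi0 => hcol v i (Nat.pos_of_ne_zero hi0)
      (Finset.mem_range.1 hi)) (fun h => absurd (Finset.mem_range.2 hr.pos) h)] at h1
  simp only [pow_zero, MulAut.one_apply, Finset.prod_const, Finset.card_range] at h1
  refine orderOf_eq_one_iff.1 (Nat.eq_one_of_dvd_coprimes hcop (_root_.orderOf_dvd_natCard v) ?_)
  exact orderOf_dvd_of_pow_eq_one h1

/-- A `2`-group of exponent dividing `4` with exactly one involution, not of order `2`, is cyclic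
of order `4` or quaternion of order `8`. -/
theorem cyclic_four_or_quaternion {Q : Type*} [Group Q] [Finite Q] (h4 : ∀ x : Q, x ^ 4 = 1)
    (z : Q) (hz : orderOf z = 2) (huniq : ∀ x : Q, orderOf x = 2 → x = z)
    (h2 : Nat.card Q ≠ 2) :
    (IsCyclic Q ∧ Nat.card Q = 4) ∨ Nonempty (Q ≃* QuaternionGroup 2) := by
  classical
  have : Fact (Nat.Prime 2) := ⟨Nat.prime_two⟩
  have hz1 : z ≠ 1 := fun h => by rw [h, orderOf_one] at hz; omega
  have hcases : ∀ x : Q, x = 1 ∨ x = z ∨ (orderOf x = 4 ∧ x ^ 2 = z) := by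
    intro x
    obtain ⟨e, he, he'⟩ := (Nat.dvd_prime_pow Nat.prime_two).1
      (show orderOf x ∣ 2 ^ 2 from orderOf_dvd_of_pow_eq_one (h4 x))
    interval_cases e
    · exact Or.inl (orderOf_eq_one_iff.1 he')
    · exact Or.inr (Or.inl (huniq x he'))
    · exact Or.inr (Or.inr ⟨he', huniq _ (by rw [orderOf_pow' x two_ne_zero, he']; rfl)⟩)
  obtain ⟨x, hx⟩ : ∃ x : Q, orderOf x = 4 := by
    by_contra hall
    push Not at hall
    apply h2
    have hall' : ∀ y : Q, y = 1 ∨ y = z := fun y => by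
      rcases hcases y with h | h | h
      · exact Or.inl h
      · exact Or.inr h
      · exact absurd h.1 (hall y)
    rw [← hz, ← Nat.card_zpowers, show zpowers z = ⊤ from (eq_top_iff' _).2 fun y => by
      rcases hall' y with rfl | rfl
      · exact one_mem _
      · exact mem_zpowers _, card_top]
  have hx2 : x ^ 2 = z := huniq _ (by rw [orderOf_pow' x two_ne_zero, hx]; rfl)
  have hzmem : z ∈ zpowers x := hx2 ▸ pow_mem (mem_zpowers x) 2
  -- elements commuting with `x`
  have hcent : ∀ y : Q, Commute x y → y ∈ zpowers x := by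
    intro y hc
    rcases hcases y with rfl | rfl | ⟨-, hy⟩
    · exact one_mem _
    · exact hzmem
    · have h1 : (x * y) ^ 2 = 1 := by
        rw [hc.mul_pow, hx2, hy, ← pow_two, ← hz, pow_orderOf_eq_one]
      rcases hcases (x * y) with h | h | ⟨h, -⟩
      · rw [eq_inv_of_mul_eq_one_right h]; exact inv_mem (mem_zpowers x)
      · rw [show y = x⁻¹ * (x * y) by group, h]; exact mul_mem (inv_mem (mem_zpowers x)) hzmem
      · have := orderOf_dvd_of_pow_eq_one h1
        rw [h] at this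
        norm_num at this
  by_cases hall : ∀ y : Q, y ∈ zpowers x
  · refine Or.inl ⟨⟨⟨x, hall⟩⟩, ?_⟩
    rw [← hx, orderOf_eq_card_of_forall_mem_zpowers hall]
  push Not at hall
  obtain ⟨y, hy⟩ := hall
  have hord4 : ∀ w : Q, w ∉ zpowers x → w ^ 2 = z := fun w hw => by
    rcases hcases w with rfl | rfl | h
    · exact absurd (one_mem _) hw
    · exact absurd hzmem hw
    · exact h.2
  have hinv : ∀ w : Q, w ∉ zpowers x → w * x * w⁻¹ = x⁻¹ := by
    intro w hw
    have hxw : x * w ∉ zpowers x := fun h => hw (by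
      simpa using mul_mem (inv_mem (mem_zpowers x)) h)
    have e1 := hord4 _ hxw
    have e2 := hord4 w hw
    rw [pow_two] at e1 e2
    have e3 : x * w * x = w := by
      calc x * w * x = (x * w * (x * w)) * w⁻¹ := by group
        _ = (w * w) * w⁻¹ := by rw [e1, e2]
        _ = w := by group
    calc w * x * w⁻¹ = x⁻¹ * (x * w * x) * w⁻¹ := by group
      _ = x⁻¹ := by rw [e3, mul_inv_cancel_right]
  have hsplit : ∀ w : Q, w ∈ zpowers x ∨ y⁻¹ * w ∈ zpowers x := by
    intro w
    by_cases hw : w ∈ zpowers x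
    · exact Or.inl hw
    refine Or.inr (hcent _ ?_)
    show x * (y⁻¹ * w) = y⁻¹ * w * x
    have e1 := mul_inv_eq_iff_eq_mul.1 (hinv w hw)
    have e2 := mul_inv_eq_iff_eq_mul.1 (hinv y hy)
    calc x * (y⁻¹ * w) = (y * x⁻¹)⁻¹ * w := by group
      _ = (x * y)⁻¹ * w := by
          have : x * y = y * x⁻¹ := by
            calc x * y = x * (y * x) * x⁻¹ := by group
              _ = x * (x⁻¹ * y) * x⁻¹ := by rw [e2]
              _ = _ := by group
          rw [this]
      _ = y⁻¹ * (x⁻¹ * w) := by group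
      _ = y⁻¹ * w * x := by rw [← e1, mul_assoc]
  -- powers of `x` by residues mod `4`
  let f : QuaternionGroup 2 → Q
    | .a i => x ^ i.val
    | .xa i => y * x ^ i.val
  have hxval : ∀ a : ℕ, x ^ a = x ^ ((a : ZMod (2 * 2))).val := fun a => by
    rw [ZMod.val_natCast, show 2 * 2 = orderOf x from hx.symm, pow_mod_orderOf]
  have hxint : ∀ a : ZMod (2 * 2), ∀ n : ℤ, (n : ZMod (2 * 2)) = a → x ^ n = x ^ a.val := by
    intro a n hn
    rw [← zpow_natCast x a.val, zpow_eq_zpow_iff_modEq, hx, ← ZMod.intCast_eq_intCast_iff]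
    show (n : ZMod 4) = ((a.val : ℤ) : ZMod 4)
    rw [Int.cast_natCast]
    exact hn.trans (ZMod.natCast_zmod_val a).symm
  have hswap : ∀ n : ℕ, x ^ n * y = y * x ^ (-(n : ℤ)) := by
    intro n
    have h1 : y * x ^ (-(n : ℤ)) * y⁻¹ = x ^ n := by
      rw [← conj_zpow, hinv y hy, inv_zpow, zpow_neg, inv_inv, zpow_natCast]
    calc x ^ n * y = (y * x ^ (-(n : ℤ)) * y⁻¹) * y := by rw [h1]
      _ = _ := by group
  have hmul : ∀ a b, f (a * b) = f a * f b := by
    rintro (i | i) (j | j)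
    · show x ^ (i + j).val = x ^ i.val * x ^ j.val
      rw [← pow_add, hxval (i.val + j.val)]
      congr 2
    · show y * x ^ (j - i).val = x ^ i.val * (y * x ^ j.val)
      rw [← mul_assoc, hswap, mul_assoc, ← zpow_natCast x j.val, ← zpow_add, hxint (j - i) _ ?_]
      push_cast
      simp [sub_eq_neg_add]
    · show y * x ^ (i + j).val = y * x ^ i.val * x ^ j.val
      rw [mul_assoc, ← pow_add, hxval (i.val + j.val)]
      congr 3
    · show x ^ ((2 : ℕ) + j - i : ZMod (2 * 2)).val = y * x ^ i.val * (y * x ^ j.val)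
      rw [show y * x ^ i.val * (y * x ^ j.val) = y * (x ^ i.val * y) * x ^ j.val by group, hswap,
        ← mul_assoc, show y * y = z by rw [← pow_two]; exact hord4 y hy, ← hx2, mul_assoc,
        ← zpow_natCast x j.val, ← zpow_add, ← zpow_natCast x 2, ← zpow_add,
        hxint (((2 : ℕ) : ZMod (2 * 2)) + j - i) _ ?_]
      push_cast
      simp
      ring
  refine Or.inr ⟨(MulEquiv.ofBijective (MonoidHom.mk' f hmul) ⟨?_, ?_⟩).symm⟩
  · rw [injective_iff_map_eq_one]
    rintro (i | i) h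
    · have h1 : x ^ i.val = 1 := h
      rw [← orderOf_dvd_iff_pow_eq_one, hx] at h1
      have h2 : i.val < 4 := ZMod.val_lt i
      have h3 : i.val = 0 := Nat.eq_zero_of_dvd_of_lt h1 h2
      rw [(ZMod.val_eq_zero i).1 h3]; rfl
    · have h1 : y * x ^ i.val = 1 := h
      exact absurd (eq_inv_of_mul_eq_one_left h1 ▸ inv_mem (pow_mem (mem_zpowers x) _)) hy
  · intro w
    have hnat : ∀ v ∈ zpowers x, ∃ i : ZMod (2 * 2), x ^ i.val = v := by
      intro v hv
      obtain ⟨n, hn⟩ := (Submonoid.mem_powers_iff v x).1 (mem_powers_iff_mem_zpowers.2 hv)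
      exact ⟨(n : ZMod (2 * 2)), by rw [← hxval, hn]⟩
    rcases hsplit w with hw | hw
    · obtain ⟨i, hi⟩ := hnat w hw
      exact ⟨.a i, hi⟩
    · obtain ⟨i, hi⟩ := hnat _ hw
      exact ⟨.xa i, show y * x ^ i.val = w by rw [hi, mul_inv_cancel_left]⟩

end CfsgLib.FewOrders
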