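import Cfsg.Agent.Lib.FewOrders.Prime
import Cfsg.Agent.Lib.FewOrders.Engel

/-!
Groups whose element orders are `1`, `2`, `3`, `4`.
-/

set_option autoImplicit false

namespace CfsgLib.FewOrders

open Subgroup
open scoped commutatorElement

universe u

variable {G : Type u} [Group G]

/-- The orders of the elements are at most four. -/
def UpToFour (G : Type*) [Group G] : Prop :=
  ∀ g : G, g = 1 ∨ orderOf g = 2 ∨ orderOf g = 3 ∨ orderOf g = 4

theorem UpToFour.quotient [Finite G] (h : UpToFour G) (N : Subgroup G) [N.Normal] :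
    UpToFour (G ⧸ N) := by
  intro x
  obtain ⟨g, rfl⟩ := QuotientGroup.mk'_surjective N x
  rcases h g with hg | hg | hg | hg
  · exact Or.inl (by rw [hg, map_one])
  · rcases (Nat.dvd_prime Nat.prime_two).1 (hg ▸ orderOf_map_dvd (QuotientGroup.mk' N) g) with h' | h'
    · exact Or.inl (orderOf_eq_one_iff.1 h')
    · exact Or.inr (Or.inl h')
  · rcases (Nat.dvd_prime Nat.prime_three).1 (hg ▸ orderOf_map_dvd (QuotientGroup.mk' N) g) with h' | h'
    · exact Or.inl (orderOf_eq_one_iff.1 h')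
    · exact Or.inr (Or.inr (Or.inl h'))
  · have h1 : orderOf (QuotientGroup.mk' N g) ∣ 2 ^ 2 :=
      (orderOf_map_dvd (QuotientGroup.mk' N) g).trans (by rw [hg]; norm_num)
    obtain ⟨e, he, he'⟩ := (Nat.dvd_prime_pow Nat.prime_two).1 h1
    interval_cases e
    · exact Or.inl (orderOf_eq_one_iff.1 he')
    · exact Or.inr (Or.inl he')
    · exact Or.inr (Or.inr (Or.inr he'))

theorem UpToFour.pow_four_or_three (h : UpToFour G) (g : G) : g ^ 4 = 1 ∨ g ^ 3 = 1 := by
  rcases h g with hg | hg | hg | hg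
  · exact Or.inl (by rw [hg, one_pow])
  · exact Or.inl (orderOf_dvd_iff_pow_eq_one.1 (hg ▸ ⟨2, rfl⟩))
  · exact Or.inr (by rw [← hg, pow_orderOf_eq_one])
  · exact Or.inl (by rw [← hg, pow_orderOf_eq_one])

/-- Elements of order three commute with no nontrivial `2`-element. -/
theorem UpToFour.not_commute (h : UpToFour G) {a b : G} (ha : a ^ 3 = 1) (ha1 : a ≠ 1)
    (hb : b ^ 4 = 1) (hb1 : b ≠ 1) : ¬ Commute a b := by
  intro hc
  have hpow : ∀ n, (a * b) ^ n = a ^ n * b ^ n := hc.mul_pow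
  rcases h.pow_four_or_three (a * b) with h' | h'
  · rw [hpow, hb, mul_one, pow_succ, ha, one_mul] at h'
    exact ha1 h'
  · rw [hpow, ha, one_mul] at h'
    rw [pow_succ, h', one_mul] at hb
    exact hb1 hb

theorem UpToFour.of_two_group (h : UpToFour G) {H : Subgroup G} (hH : IsPGroup 2 H) {x : G}
    (hx : x ∈ H) : x ^ 4 = 1 := by
  obtain ⟨k, hk⟩ := hH ⟨x, hx⟩
  have hk' : x ^ 2 ^ k = 1 := congrArg Subtype.val hk
  rcases h.pow_four_or_three x with h' | h'
  · exact h'
  · have := pow_gcd_eq_one.2 ⟨h', hk'⟩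
    rw [((Nat.coprime_primes Nat.prime_three Nat.prime_two).2 (by norm_num)).pow_right k |>.gcd_eq_one,
      pow_one] at this
    rw [this, one_pow]

theorem UpToFour.of_three_group (h : UpToFour G) {H : Subgroup G} (hH : IsPGroup 3 H) {x : G}
    (hx : x ∈ H) : x ^ 3 = 1 := by
  obtain ⟨k, hk⟩ := hH ⟨x, hx⟩
  have hk' : x ^ 3 ^ k = 1 := congrArg Subtype.val hk
  rcases h.pow_four_or_three x with h' | h'
  · have := pow_gcd_eq_one.2 ⟨h', hk'⟩
    rw [(show (4 : ℕ).Coprime (3 ^ k) from Nat.Coprime.pow_right k (by norm_num)).gcd_eq_one,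
      pow_one] at this
    rw [this, one_pow]
  · exact h'

theorem UpToFour.isSolvable [Finite G] (h : UpToFour G) : Group.IsSolvable G := by
  refine isSolvable_of_two_primes Nat.prime_two Nat.prime_three fun t ht htd => ?_
  have := Fact.mk ht
  obtain ⟨g, hg⟩ := exists_prime_orderOf_dvd_card' t htd
  rcases h g with h' | h' | h' | h'
  · rw [h', orderOf_one] at hg; exact absurd hg.symm ht.ne_one
  · exact Or.inl (hg ▸ h')
  · exact Or.inr (hg ▸ h')
  · rw [hg] at h'; exact absurd (h' ▸ ht) (by norm_num)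

/-- The heart of the `S₃` case: a group of exponent dividing four with a fixed-point-free
automorphism `φ` of order three and an involution `τ` inverting it, such that each
`x * φ ^ j (τ x)` squares to one, is elementary abelian. -/
theorem exponent_two_of_sym_three {P : Type*} [Group P] [Finite P] (φ τ : MulAut P)
    (hfix : ∀ v, φ v = v → v = 1) (h3 : φ ^ 3 = 1) (hτ : τ * φ * τ⁻¹ = φ⁻¹)
    (h4 : ∀ v : P, v ^ 4 = 1) (hn : ∀ (j : ℕ) (v : P), (v * (φ ^ j * τ) v) ^ 2 = 1) :
    (∀ a b : P, a * b = b * a) ∧ ∀ v : P, v ^ 2 = 1 := by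
  have hφ3 : ∀ x, φ (φ (φ x)) = x := fun x => by
    have := DFunLike.congr_fun h3 x
    simpa [pow_succ] using this
  have hfpf : MonoidHom.FixedPointFree (φ.toMonoidHom : P →* P) := fun v hv => hfix v hv
  have hP1 : ∀ x, x * φ x * φ (φ x) = 1 := by
    intro x
    have := hfpf.prod_pow_eq_one (n := 3) (funext hφ3) x
    simpa [List.range_succ, mul_assoc] using this
  have h3card : ¬ 3 ∣ Nat.card P := by
    intro hd
    have := Fact.mk Nat.prime_three
    obtain ⟨x, hx⟩ := exists_prime_orderOf_dvd_card' 3 hd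
    have h1 := orderOf_dvd_of_pow_eq_one (h4 x)
    rw [hx] at h1
    norm_num at h1
  have hcen : ⁅(⊤ : Subgroup P), (⊤ : Subgroup P)⁆ ≤ center P :=
    commutator_le_center_of_fpf_three φ.toMonoidHom hfpf hφ3 h3card
  have hCz : ∀ a b : P, ⁅a, b⁆ ∈ center P := fun a b =>
    hcen (commutator_mem_commutator (mem_top a) (mem_top b))
  -- bilinearity
  have hbl : ∀ a b c : P, ⁅a * b, c⁆ = ⁅a, c⁆ * ⁅b, c⁆ := fun a b c => by
    calc ⁅a * b, c⁆ = a * ⁅b, c⁆ * a⁻¹ * ⁅a, c⁆ := by simp only [commutatorElement_def]; group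
      _ = ⁅b, c⁆ * ⁅a, c⁆ := by rw [(mem_center_iff.1 (hCz b c)) a, mul_inv_cancel_right]
      _ = ⁅a, c⁆ * ⁅b, c⁆ := ((mem_center_iff.1 (hCz b c)) _).symm
  have hbr : ∀ a b c : P, ⁅a, b * c⁆ = ⁅a, b⁆ * ⁅a, c⁆ := fun a b c => by
    calc ⁅a, b * c⁆ = ⁅a, b⁆ * (b * ⁅a, c⁆ * b⁻¹) := by simp only [commutatorElement_def]; group
      _ = ⁅a, b⁆ * ⁅a, c⁆ := by rw [(mem_center_iff.1 (hCz a c)) b, mul_inv_cancel_right]
  let n : P → P := fun x => x * τ x
  let π : P →* Abelianization P := Abelianization.of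
  have hker : ∀ x, π x = 1 → x ∈ center P := fun x hx => hcen (by
    have : x ∈ π.ker := hx
    rwa [Abelianization.ker_of] at this)
  have hτφ : ∀ x, τ (φ x) = φ (φ (τ x)) := by
    intro x
    have h1 : τ * φ = φ⁻¹ * τ := mul_inv_eq_iff_eq_mul.1 hτ
    have h2 : φ⁻¹ = φ ^ 2 := inv_eq_of_mul_eq_one_right (by rw [← pow_succ', h3])
    rw [h2] at h1
    simpa [pow_succ] using DFunLike.congr_fun h1 x
  have hn0 : ∀ x, (n x) ^ 2 = 1 := fun x => by simpa [n] using hn 0 x
  -- every element is a product of conjugated norms, modulo the commutator subgroup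
  have hdecomp : ∀ x, π x ^ 3 = π (n x) * π (φ (φ (n (φ x)))) * π (φ (n (φ (φ x)))) := by
    intro x
    have e1 : φ (φ (n (φ x))) = x * φ (τ x) := by
      simp only [n, map_mul, hτφ, hφ3]
    have e2 : φ (n (φ (φ x))) = x * φ (φ (τ x)) := by
      simp only [n, map_mul, hτφ, hφ3]
    have e3 : π (τ x) * π (φ (τ x)) * π (φ (φ (τ x))) = 1 := by
      rw [← map_mul, ← map_mul, hP1, map_one]
    rw [e1, e2]
    simp only [n, map_mul]
    calc π x ^ 3 = π x ^ 3 * (π (τ x) * π (φ (τ x)) * π (φ (φ (τ x)))) := by rw [e3, mul_one]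
      _ = _ := by simp only [pow_succ, pow_zero, one_mul]; ac_rfl
  have h6' : ∀ x, (π x ^ 3) ^ 2 = 1 := fun x => by
    rw [hdecomp, mul_pow, mul_pow]
    simp only [← map_pow, hn0, map_one, mul_one]
  have hsq : ∀ x, x ^ 2 ∈ center P := by
    intro x
    refine hker _ ?_
    have h6 := h6' x
    have h4' : π x ^ 4 = 1 := by rw [← map_pow, h4, map_one]
    rw [← pow_mul, show 3 * 2 = 4 + 2 from rfl, pow_add, h4', one_mul, ← map_pow] at h6
    exact h6
  have hC2 : ∀ a b : P, ⁅a, b⁆ * ⁅a, b⁆ = 1 := fun a b => by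
    rw [← hbl, ← pow_two, commutatorElement_eq_one_iff_commute]
    exact (mem_center_iff.1 (hsq a) b).symm
  have hinv : ∀ a b : P, ⁅a, b⁆⁻¹ = ⁅a, b⁆ := fun a b => inv_eq_of_mul_eq_one_right (hC2 a b)
  -- the norms commute
  have hA : ∀ x y, Commute (n x) (n y) := by
    intro x y
    have hmod : π (n (x * y)) = π (n x * n y) := by
      simp only [n, map_mul]; ac_rfl
    have hz : (n x * n y)⁻¹ * n (x * y) ∈ center P := hker _ (by
      rw [map_mul, map_inv, hmod, inv_mul_cancel])
    set z := (n x * n y)⁻¹ * n (x * y) with hzdef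
    have hzc : Commute (n x * n y) z := mem_center_iff.1 hz _
    have hz2 : z ^ 2 = 1 := by
      refine orderOf_dvd_iff_pow_eq_one.1 ?_
      have h1 : π z = 1 := by rw [hzdef, map_mul, map_inv, hmod, inv_mul_cancel]
      have h2 : z ∈ ⁅(⊤ : Subgroup P), (⊤ : Subgroup P)⁆ := by
        have : z ∈ π.ker := h1
        rwa [Abelianization.ker_of] at this
      refine orderOf_dvd_of_pow_eq_one ?_
      have key : ∀ w ∈ ⁅(⊤ : Subgroup P), (⊤ : Subgroup P)⁆, w ^ 2 = 1 ∧ w ∈ center P := by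
        intro w hw
        rw [Subgroup.commutator_def] at hw
        refine closure_induction (fun v hv => ?_) ⟨one_pow _, one_mem _⟩ ?_ ?_ hw
        · obtain ⟨a, -, b, -, rfl⟩ := hv
          exact ⟨by rw [pow_two, hC2], hCz a b⟩
        · rintro a b - - ⟨ha, ha'⟩ ⟨hb, hb'⟩
          exact ⟨by rw [(show Commute a b from (mem_center_iff.1 hb' a)).mul_pow, ha, hb, one_mul],
            mul_mem ha' hb'⟩
        · rintro a - ⟨ha, ha'⟩
          exact ⟨by rw [inv_pow, ha, inv_one], inv_mem ha'⟩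
      exact (key z h2).1
    have h1 : (n x * n y) ^ 2 = 1 := by
      have h2 := hn0 (x * y)
      rwa [show n (x * y) = (n x * n y) * z by rw [hzdef]; group, hzc.mul_pow, hz2, mul_one] at h2
    show n x * n y = n y * n x
    have hx' : (n x)⁻¹ = n x := inv_eq_of_mul_eq_one_right (by rw [← pow_two, hn0])
    have hy' : (n y)⁻¹ = n y := inv_eq_of_mul_eq_one_right (by rw [← pow_two, hn0])
    rw [pow_two] at h1
    have h3' := inv_eq_of_mul_eq_one_right h1
    rw [mul_inv_rev, hx', hy'] at h3'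
    exact h3'.symm
  have hmapC : ∀ a b, φ ⁅a, b⁆ = ⁅φ a, φ b⁆ := fun a b => map_commutatorElement φ.toMonoidHom a b
  have hB : ∀ x y, Commute (n x) (φ (n y)) := by
    intro x y
    rw [← commutatorElement_eq_one_iff_commute]
    refine hfix _ ?_
    set u := n x
    set v := n y
    have hself : ∀ w : P, ⁅w, φ w⁆ = 1 := by
      intro w
      rw [commutatorElement_eq_one_iff_commute]
      let ψ : P →* P := φ.toMonoidHom.comp φ.toMonoidHom
      have hψfix : MonoidHom.FixedPointFree ψ := fun z hz => hfix z (by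
        have hz' : φ (φ z) = z := hz
        calc φ z = φ (φ (φ z)) := by rw [hz']
          _ = z := hφ3 z)
      have hP2 := hψfix.prod_pow_eq_one (n := 3) (funext fun z => by
        show φ (φ (φ (φ (φ (φ z))))) = z
        rw [hφ3, hφ3]) w
      have e2 : w * φ (φ w) * φ w = 1 := by
        simpa [List.range_succ, ψ, mul_assoc, hφ3] using hP2
      rw [eq_inv_of_mul_eq_one_right (hP1 w), mul_inv_rev] at e2
      have e3 : w⁻¹ * φ w = φ w * w⁻¹ := by
        calc w⁻¹ * φ w = φ w * w⁻¹ * (w * ((φ w)⁻¹ * w⁻¹) * φ w) := by group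
          _ = φ w * w⁻¹ := by rw [e2, mul_one]
      have e4 := Commute.inv_left (show Commute w⁻¹ (φ w) from e3)
      rwa [inv_inv] at e4
    have e1 : φ ⁅u, φ v⁆ = ⁅v, φ u⁆ := by
      have h2 : φ (φ v) = (v * φ v)⁻¹ := eq_inv_of_mul_eq_one_right (hP1 v)
      rw [hmapC, h2, mul_inv_rev]
      have h3 : ∀ a b : P, ⁅a, b⁻¹⁆ = ⁅a, b⁆⁻¹ := fun a b => eq_inv_of_mul_eq_one_left (by
        rw [← hbr, inv_mul_cancel, commutatorElement_one_right])
      rw [hbr, h3, h3, ← hmapC u v, commutatorElement_eq_one_iff_commute.2 (hA x y), map_one,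
        inv_one, one_mul, commutatorElement_inv]
    have e2 : ⁅u, φ v⁆ * ⁅v, φ u⁆ = 1 := by
      have h2 := hself (u * v)
      rw [map_mul, hbl, hbr, hbr, hself u, hself v, one_mul, mul_one] at h2
      exact h2
    rw [e1, eq_inv_of_mul_eq_one_right e2, hinv]
  -- so everything is central
  have hgen : ∀ x, ∃ z ∈ center P, x = n x * φ (φ (n (φ x))) * φ (n (φ (φ x))) * z := by
    intro x
    refine ⟨(n x * φ (φ (n (φ x))) * φ (n (φ (φ x))))⁻¹ * x, ?_, by group⟩
    refine hker _ ?_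
    rw [map_mul, map_inv, map_mul, map_mul, ← hdecomp, inv_mul_eq_one]
    have h4' : π x ^ 2 = 1 := by
      rw [← map_pow]
      have hmem := hsq x
      have h6 := h6' x
      rw [← pow_mul, show 3 * 2 = 4 + 2 from rfl, pow_add, ← map_pow, h4, map_one, one_mul,
        ← map_pow] at h6
      exact h6
    rw [pow_succ, h4', one_mul]
  have hsymB : ∀ x y, Commute (φ (φ (n x))) (n y) := by
    intro x y
    rw [eq_inv_of_mul_eq_one_right (hP1 (n x))]
    exact ((hA x y).mul_left (hB y x).symm).inv_left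
  have hcommN : ∀ x y, Commute x (n y) := by
    intro x y
    obtain ⟨z, hz, hx⟩ := hgen x
    rw [hx]
    exact (((hA x y).mul_left (hsymB _ y)).mul_left (hB y _).symm).mul_left
      (show Commute z (n y) from (mem_center_iff.1 hz (n y)).symm)
  have hphi : ∀ w ∈ center P, φ w ∈ center P := fun w hw => by
    rw [mem_center_iff] at hw ⊢
    intro g
    obtain ⟨g', rfl⟩ := φ.surjective g
    rw [← map_mul, hw, map_mul]
  have hcomm : ∀ a b : P, a * b = b * a := by
    intro a b
    have hN : ∀ y, n y ∈ center P := fun y => mem_center_iff.2 fun g => (hcommN g y).eq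
    obtain ⟨z, hz, hx⟩ := hgen b
    have hb : b ∈ center P := by
      rw [hx]
      exact mul_mem (mul_mem (mul_mem (hN _) (hphi _ (hphi _ (hN _)))) (hphi _ (hN _))) hz
    exact mem_center_iff.1 hb a
  refine ⟨hcomm, fun v => ?_⟩
  -- in an abelian group the sixth power of an element is a product of squared norms
  have hinj : Function.Injective π := by
    rw [injective_iff_map_eq_one]
    intro w hw
    have h1 : w ∈ ⁅(⊤ : Subgroup P), (⊤ : Subgroup P)⁆ := by
      have : w ∈ π.ker := hw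
      rwa [Abelianization.ker_of] at this
    have h2 : ⁅(⊤ : Subgroup P), (⊤ : Subgroup P)⁆ = ⊥ := by
      rw [eq_bot_iff, commutator_le]
      intro a _ b _
      rw [mem_bot, commutatorElement_eq_one_iff_mul_comm]
      exact hcomm a b
    rwa [h2, mem_bot] at h1
  refine hinj ?_
  rw [map_one, map_pow]
  have h6 := h6' v
  rwa [← pow_mul, show 3 * 2 = 4 + 2 from rfl, pow_add, ← map_pow, h4, map_one, one_mul] at h6

end CfsgLib.FewOrders
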